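import Groth.Agent.FanoCI.HilbLinear
import Groth.Agent.LefHyp.Jet
import Mathlib.GroupTheory.CosetCover
import Mathlib.RingTheory.MvPolynomial.Ideal

/-!
# Forms vanishing on a finite subscheme of projective space

If every point `x` of the finite subscheme has `m_x ^ e x = 0` and `Σ e ≤ t + 1`, then multiplication by
a linear form `ℓ` without zeros on the subscheme identifies forms of degree `t` with forms of degree
`t + 1` modulo the forms vanishing on the subscheme.
-/

set_option autoImplicit false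
set_option linter.style.haveILetI false
set_option linter.unusedSectionVars false

universe u

open CategoryTheory AlgebraicGeometry TopologicalSpace MvPolynomial

noncomputable section

namespace Groth.Agent.PtsReg

open Groth.Agent Groth.Agent.BertiniPn Groth.Agent.FanoCI
open Groth.Agent.SepTang48 (D ρ isAffineOpen_D)

variable {k : Type u} [Field k] [Infinite k] {n : ℕ} {X : Scheme.{u}} (i : X ⟶ CohB1.ProjSpace n k)

local notation "S" => MvPolynomial (Fin (n + 1)) k
local notation "S_[" t "]" => MvPolynomial.homogeneousSubmodule (Fin (n + 1)) k t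

/-- The restriction of a polynomial to a chart of the subscheme, and its germ at a point. -/
def gx (j : Fin (n + 1)) (x : X) (hx : x ∈ U i j) : S →+* X.presheaf.stalk x :=
  (X.presheaf.germ (U i j) x hx).hom.comp (aeval (LefHyp.coord i j)).toRingHom

theorem aeval_coord_eq (j : Fin (n + 1)) (q : S) :
    aeval (LefHyp.coord i j) q = i.app (D k n j) (HilbLinear.ev j q) := by
  rw [HilbLinear.ev, MvPolynomial.map_eval₂Hom]
  rfl

theorem gx_change {t : ℕ} {g : S} (hg : g.IsHomogeneous t) (a b : Fin (n + 1)) (x : X)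
    (ha : x ∈ U i a) (hb : x ∈ U i b) : gx i b x hb g = gx i b x hb (MvPolynomial.X a) ^ t * gx i a x ha g := by
  let F : LefPen.Form n k t := ⟨g, hg⟩
  let W : (CohB1.ProjSpace n k).Opens := D k n a ⊓ D k n b
  have hW : i x ∈ W := ⟨ha, hb⟩
  have h := LefHyp.rres_dehom F a b W inf_le_left inf_le_right
  have hcb : ∀ q : S, gx i b x hb q = (i.stalkMap x).hom
      ((CohB1.ProjSpace n k).presheaf.germ (D k n b) (i x) hb (HilbLinear.ev b q)) := fun q => by
    show (X.presheaf.germ (U i b) x hb).hom _ = _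
    rw [AlgHom.toRingHom_eq_coe, RingHom.coe_coe, aeval_coord_eq]
    exact (Scheme.Hom.germ_stalkMap_apply i (D k n b) x hb _).symm
  have hca : gx i a x ha g = (i.stalkMap x).hom
      ((CohB1.ProjSpace n k).presheaf.germ (D k n a) (i x) ha (HilbLinear.ev a g)) := by
    show (X.presheaf.germ (U i a) x ha).hom _ = _
    rw [AlgHom.toRingHom_eq_coe, RingHom.coe_coe, aeval_coord_eq]
    exact (Scheme.Hom.germ_stalkMap_apply i (D k n a) x ha _).symm
  have hXa : HilbLinear.ev b (MvPolynomial.X a) = ρ k n b a := MvPolynomial.eval₂Hom_X' _ _ _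
  rw [hcb, hcb, hca, ← map_pow, ← map_mul]
  congr 1
  have hg' : ∀ (j : Fin (n + 1)) (hj : W ≤ D k n j) (c : Γ(CohB1.ProjSpace n k, D k n j)),
      ((CohB1.ProjSpace n k).presheaf.germ W (i x) hW).hom (QCoh.rres hj c) =
        ((CohB1.ProjSpace n k).presheaf.germ (D k n j) (i x) (hj hW)).hom c :=
    fun j hj c => TopCat.Presheaf.germ_res_apply _ _ _ _ c
  have e := congrArg ((CohB1.ProjSpace n k).presheaf.germ W (i x) hW).hom h
  have e2 := (hg' b inf_le_right _).symm.trans (e.trans ((map_mul _ _ _).trans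
    (congrArg₂ (· * ·) ((map_pow _ _ _).trans (congrArg (· ^ t) (hg' b inf_le_right _))) (hg' a inf_le_left _))))
  rw [← HilbLinear.ev_form F b, ← HilbLinear.ev_form F a, ← hXa] at e2
  exact e2

theorem gx_X_isUnit (a b : Fin (n + 1)) (x : X) (ha : x ∈ U i a) (hb : x ∈ U i b) :
    IsUnit (gx i b x hb (MvPolynomial.X a)) := by
  have h := gx_change i (isHomogeneous_X k b) a b x ha hb
  have hbb : gx i b x hb (MvPolynomial.X b) = 1 := by
    show (X.presheaf.germ (U i b) x hb).hom (aeval (LefHyp.coord i b) (MvPolynomial.X b)) = 1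
    rw [aeval_X, LefHyp.coord_self, map_one]
  rw [hbb, pow_one] at h
  exact isUnit_iff_exists_inv.mpr ⟨_, h.symm⟩

variable [IsClosedImmersion i] [Finite X]

include i in
theorem isClosed_point (x : X) : IsClosed ({x} : Set X) := by
  haveI : IsProper (CohB1.ProjSpace.toSpec n k) := ProjProper.Basic.isProper_toSpec n k
  haveI := LocallyOfFiniteType.jacobsonSpace (i ≫ CohB1.ProjSpace.toSpec n k)
  haveI : DiscreteTopology X := inferInstance
  exact isClosed_discrete _

theorem exists_chart (x : X) : ∃ j, x ∈ U i j := by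
  obtain ⟨j, hj⟩ := Opens.mem_iSup.mp
    ((SepTang48.iSup_D (k := k) (n := n)).ge (trivial : i x ∈ (⊤ : (CohB1.ProjSpace n k).Opens)))
  exact ⟨j, hj⟩

/-- A chosen chart at a point. -/
def jc (x : X) : Fin (n + 1) := (exists_chart i x).choose

theorem jc_mem (x : X) : x ∈ U i (jc i x) := (exists_chart i x).choose_spec

/-- The chosen evaluation at a point. -/
def gp (x : X) : S →+* X.presheaf.stalk x := gx i (jc i x) x (jc_mem i x)

/-- The homogeneous polynomials vanishing at all the points of a set. -/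
def VT (s : Finset X) : Set S := {g | (∃ d, g.IsHomogeneous d) ∧ ∀ x ∈ s, gp i x g = 0}

theorem gx_isUnit_of_gp {g : S} {d : ℕ} (hg : g.IsHomogeneous d) (x : X) (h : IsUnit (gp i x g))
    (j : Fin (n + 1)) (hj : x ∈ U i j) : IsUnit (gx i j x hj g) := by
  rw [gx_change i hg (jc i x) j x (jc_mem i x) hj]
  exact ((gx_X_isUnit i _ j x (jc_mem i x) hj).pow _).mul h

theorem vanI_iff {t : ℕ} (F : LefPen.Form n k t) :
    F.1 ∈ HilbLinear.vanI i.ker ↔ ∀ (x : X) (j : Fin (n + 1)) (hj : x ∈ U i j), gx i j x hj F.1 = 0 := by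
  rw [HilbLinear.mem_vanI_iff]
  constructor
  · intro h x j hj
    have h1 := h j
    rw [Scheme.Hom.ker_apply, RingHom.mem_ker] at h1
    show (X.presheaf.germ (U i j) x hj).hom (aeval (LefHyp.coord i j) F.1) = 0
    rw [aeval_coord_eq, HilbLinear.ev_form]
    exact (congrArg _ h1).trans (map_zero _)
  · intro h j
    rw [Scheme.Hom.ker_apply, RingHom.mem_ker]
    refine TopCat.Presheaf.section_ext X.sheaf _ _ _ fun x hx => ?_
    have h1 := h x j hx
    change (X.presheaf.germ (U i j) x hx).hom (aeval (LefHyp.coord i j) F.1) = 0 at h1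
    rw [aeval_coord_eq, HilbLinear.ev_form] at h1
    exact h1.trans (map_zero _).symm

variable [IsAlgClosed k]

/-- The value of a linear form at a point. -/
theorem exists_value (x : X) : ∃ φ : LefPen.Form n k 1 →ₗ[k] k, φ ≠ 0 ∧
    (∀ v, φ v = 0 → gp i x v.1 ∈ IsLocalRing.maximalIdeal (X.presheaf.stalk x)) ∧
    ∀ v, φ v ≠ 0 → IsUnit (gp i x v.1) := by
  have hU : IsAffineOpen (U i (jc i x)) := BertiniPn.isAffineOpen_U i _
  haveI : (hU.primeIdealOf ⟨x, jc_mem i x⟩).asIdeal.IsMaximal :=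
    hU.primeIdealOf_isMaximal_of_isClosed _ (isClosed_point i x)
  obtain ⟨φ, hφ⟩ := LefHyp.exists_point i (jc i x) (hU.primeIdealOf ⟨x, jc_mem i x⟩).asIdeal
  have key : ∀ a, φ a = 0 ↔
      (X.presheaf.germ (U i (jc i x)) x (jc_mem i x)).hom a ∈ IsLocalRing.maximalIdeal (X.presheaf.stalk x) := by
    intro a
    rw [← RingHom.mem_ker, hφ, hU.primeIdealOf_eq_map_closedPoint]
    exact Iff.rfl
  refine ⟨φ.toLinearMap ∘ₗ LefHyp.hF i (jc i x), fun h => ?_, fun v hv => (key _).1 hv, fun v hv => ?_⟩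
  · have := congrArg (fun f => f (⟨MvPolynomial.X (jc i x), isHomogeneous_X k _⟩ : LefPen.Form n k 1)) h
    simp [LefHyp.hF, LefHyp.coord_self] at this
  · exact IsLocalRing.notMem_maximalIdeal.mp fun h => hv ((key _).2 h)

/-- A linear form without zeros on the subscheme. -/
theorem exists_linear : ∃ l : LefPen.Form n k 1, ∀ x, IsUnit (gp i x l.1) := by
  choose φ h0 h1 h2 using exists_value i
  by_contra hc
  push Not at hc
  have hcov : ⋃ x, ((LinearMap.ker (φ x) : Subspace k (LefPen.Form n k 1)) : Set (LefPen.Form n k 1)) = Set.univ := by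
    refine Set.eq_univ_of_forall fun v => ?_
    obtain ⟨x, hx⟩ := hc v
    exact Set.mem_iUnion.mpr ⟨x, by_contra fun h => hx (h2 x v h)⟩
  obtain ⟨x, hx⟩ := Subspace.exists_eq_top_of_iUnion_eq_univ hcov
  exact h0 x (LinearMap.ker_eq_top.mp hx)

theorem pow_le (x : X) (l : LefPen.Form n k 1) (hl : IsUnit (gp i x l.1)) (e : ℕ)
    (he : IsLocalRing.maximalIdeal (X.presheaf.stalk x) ^ e = ⊥) :
    (idealOfVars (Fin (n + 1)) k ^ e).map (Ideal.Quotient.mk (Ideal.span {l.1})) ≤
      (Ideal.span (VT i {x})).map (Ideal.Quotient.mk (Ideal.span {l.1})) := by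
  obtain ⟨φ, -, h1, h2⟩ := exists_value i x
  have hφl : φ l ≠ 0 := fun h => (IsLocalRing.mem_maximalIdeal _).mp (h1 l h) hl
  let T : ℕ → Set S := fun e => {g | (∃ d, g.IsHomogeneous d) ∧
    gp i x g ∈ IsLocalRing.maximalIdeal (X.presheaf.stalk x) ^ e}
  have hT : ∀ e, Ideal.span (T 1) ^ e ≤ Ideal.span (T e) := by
    intro e
    induction e with
    | zero =>
      rw [pow_zero, Ideal.one_eq_top]
      refine le_of_eq ((Ideal.eq_top_iff_one _).mpr (Ideal.subset_span (s := T 0)
        (show (1 : S) ∈ T 0 from ⟨⟨0, isHomogeneous_one _ _⟩, ?_⟩))).symm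
      rw [pow_zero, Ideal.one_eq_top]; trivial
    | succ e ih =>
      rw [pow_succ]
      refine (Ideal.mul_mono ih le_rfl).trans ?_
      rw [Ideal.span_mul_span', Ideal.span_le]
      rintro _ ⟨a, ⟨⟨da, hda⟩, ha⟩, b, ⟨⟨db, hdb⟩, hb⟩, rfl⟩
      refine Ideal.subset_span ⟨⟨da + db, hda.mul hdb⟩, ?_⟩
      rw [pow_succ, map_mul]
      rw [pow_one] at hb
      exact Ideal.mul_mem_mul ha hb
  have h0 : (idealOfVars (Fin (n + 1)) k).map (Ideal.Quotient.mk (Ideal.span {l.1})) ≤
      (Ideal.span (T 1)).map (Ideal.Quotient.mk (Ideal.span {l.1})) := by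
    rw [idealOfVars, Ideal.map_span, Ideal.span_le]
    rintro _ ⟨_, ⟨m, rfl⟩, rfl⟩
    let Xm : LefPen.Form n k 1 := ⟨MvPolynomial.X m, isHomogeneous_X k m⟩
    let c := φ Xm / φ l
    have hw : φ (Xm - c • l) = 0 := by
      rw [map_sub, map_smul, smul_eq_mul, div_mul_cancel₀ _ hφl, sub_self]
    refine Ideal.mem_map_of_mem (Ideal.Quotient.mk (Ideal.span {l.1}))
      (Ideal.subset_span (α := S) (s := T 1)
        (show (Xm - c • l).1 ∈ T 1 from ⟨⟨1, (Xm - c • l).2⟩, by rw [pow_one]; exact h1 _ hw⟩)) |> (fun h => ?_)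
    have e : Ideal.Quotient.mk (Ideal.span {l.1}) (Xm - c • l).1 = Ideal.Quotient.mk (Ideal.span {l.1}) (MvPolynomial.X m) := by
      rw [Ideal.Quotient.eq]
      show (MvPolynomial.X m - c • l.1) - MvPolynomial.X m ∈ _
      rw [sub_sub_cancel_left, Algebra.smul_def]
      exact neg_mem (Ideal.mul_mem_left _ _ (Ideal.subset_span rfl))
    rw [e] at h
    exact h
  rw [Ideal.map_pow]
  refine (Ideal.pow_right_mono h0 e).trans ?_
  rw [← Ideal.map_pow]
  refine Ideal.map_mono ((hT e).trans (Ideal.span_mono ?_))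
  rintro g ⟨hd, hg⟩
  refine ⟨hd, fun y hy => ?_⟩
  obtain rfl := Finset.mem_singleton.mp hy
  rw [he] at hg
  exact (Submodule.mem_bot _).mp hg

theorem prod_le (l : LefPen.Form n k 1) (hl : ∀ x, IsUnit (gp i x l.1)) (e : X → ℕ)
    (he : ∀ x, IsLocalRing.maximalIdeal (X.presheaf.stalk x) ^ e x = ⊥) (s : Finset X) :
    (idealOfVars (Fin (n + 1)) k ^ (∑ x ∈ s, e x)).map (Ideal.Quotient.mk (Ideal.span {l.1})) ≤
      (Ideal.span (VT i s)).map (Ideal.Quotient.mk (Ideal.span {l.1})) := by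
  classical
  induction s using Finset.induction_on with
  | empty =>
    refine Ideal.map_mono (le_of_le_of_eq le_top (Eq.symm ?_))
    exact (Ideal.eq_top_iff_one _).mpr
      (Ideal.subset_span ⟨⟨0, isHomogeneous_one _ _⟩, fun y hy => absurd hy (Finset.notMem_empty y)⟩)
  | insert a s ha ih =>
    rw [Finset.sum_insert ha, pow_add, Ideal.map_mul]
    refine (Ideal.mul_mono (pow_le i a l (hl a) (e a) (he a)) ih).trans ?_
    rw [← Ideal.map_mul, Ideal.span_mul_span']
    refine Ideal.map_mono (Ideal.span_mono ?_)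
    rintro _ ⟨f, ⟨⟨df, hdf⟩, hf⟩, g, ⟨⟨dg, hdg⟩, hg⟩, rfl⟩
    refine ⟨⟨df + dg, hdf.mul hdg⟩, fun x hx => ?_⟩
    show gp i x (f * g) = 0
    rw [map_mul]
    rcases Finset.mem_insert.mp hx with rfl | hx
    · rw [hf _ (Finset.mem_singleton_self _), zero_mul]
    · rw [hg x hx, mul_zero]

variable [Fintype X]

/-- Multiplication by a linear form without zeros. -/
theorem exists_step (e : X → ℕ) (he : ∀ x, IsLocalRing.maximalIdeal (X.presheaf.stalk x) ^ e x = ⊥) :
    ∃ l : LefPen.Form n k 1, ∀ t : ℕ,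
      (∀ F : LefPen.Form n k t, l.1 * F.1 ∈ HilbLinear.vanI i.ker → F.1 ∈ HilbLinear.vanI i.ker) ∧
      (∑ x, e x ≤ t + 1 → ∀ F : LefPen.Form n k (t + 1),
        ∃ G : LefPen.Form n k t, F.1 - l.1 * G.1 ∈ HilbLinear.vanI i.ker) := by
  obtain ⟨l, hl⟩ := exists_linear i
  refine ⟨l, fun t => ⟨fun F h => ?_, fun ht F => ?_⟩⟩
  · rw [vanI_iff]
    intro x j hj
    have hm : (l.1 * F.1).IsHomogeneous (1 + t) := l.2.mul F.2
    have := (vanI_iff i ⟨l.1 * F.1, hm⟩).1 h x j hj
    rw [map_mul] at this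
    exact ((gx_isUnit_of_gp i l.2 x (hl x) j hj).mul_right_eq_zero).mp this
  · have hF : F.1 ∈ idealOfVars (Fin (n + 1)) k ^ (∑ x, e x) := by
      rw [mem_pow_idealOfVars_iff]
      intro d hd
      have := F.2 (mem_support_iff.mp hd)
      rw [Finsupp.degree_eq_weight_one]
      exact ht.trans_eq this.symm
    have h1 := prod_le i l hl e he Finset.univ (Ideal.mem_map_of_mem _ hF)
    obtain ⟨q, hq, hqF⟩ := (Ideal.mem_map_iff_of_surjective _ Ideal.Quotient.mk_surjective).mp h1
    obtain ⟨h, hh⟩ := Ideal.mem_span_singleton'.mp (Ideal.Quotient.eq.mp hqF.symm)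
    refine ⟨⟨homogeneousComponent t h, homogeneousComponent_isHomogeneous t h⟩, ?_⟩
    have e1 : F.1 - l.1 * homogeneousComponent t h = homogeneousComponent (t + 1) q := by
      have e2 : q = F.1 - h * l.1 := by rw [hh]; abel
      rw [e2, map_sub, mul_comm h l.1, mul_comm l.1 h, GradedLin.hc_mul l.2 (by omega : 1 ≤ t + 1),
        homogeneousComponent_of_mem F.2, if_pos rfl]
      simp [mul_comm]
    rw [e1]
    have hc : homogeneousComponent (t + 1) q ∈ Ideal.span (VT i Finset.univ) :=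
      HilbLinear.hc_mem_span (fun _ hg => hg.1) hq _
    refine (Ideal.span_le (I := HilbLinear.vanI i.ker)).2 ?_ hc
    rintro g ⟨⟨d, hd⟩, hg⟩
    refine (vanI_iff i ⟨g, hd⟩).2 fun x j hj => ?_
    rw [gx_change i hd (jc i x) j x (jc_mem i x) hj]
    exact (congrArg (_ * ·) (hg x (Finset.mem_univ x))).trans (mul_zero _)

end Groth.Agent.PtsReg
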