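import Groth.Agent.PtsReg.Algebra
import Groth.Agent.EulerChar.Torsion
import Groth.Agent.ProjTwist.Pn.TopCohom
import Groth.Agent.ProjTwist.Pn.Linear

/-! Regularity of the ideal sheaf of a finite subscheme of projective space. -/

set_option autoImplicit false
set_option linter.style.haveILetI false

universe u

open CategoryTheory AlgebraicGeometry TopologicalSpace MvPolynomial

noncomputable section

namespace Groth.Agent.PtsReg

open Groth.Agent Groth.Agent.FanoCI

variable {k : Type u} [Field k] [IsAlgClosed k] {n : ℕ} {X : Scheme.{u}} (i : X ⟶ CohB1.ProjSpace n k)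
  [IsClosedImmersion i] [Fintype X]

local notation "P" => CohB1.ProjSpace n k
local notation "S_[" t "]" => MvPolynomial.homogeneousSubmodule (Fin (n + 1)) k t
local notation "Q" => ClSub.quotMod i.ker
local notation "𝕆(" t ")" => Twist.twistProjSpace n k t

theorem supp_dim_le (d : ℤ) :
    topologicalKrullDim ↥(CohB1.support (CohB1.tensorMod Q 𝕆(d))) ≤ 0 := by
  haveI : IsProper (CohB1.ProjSpace.toSpec n k) := ProjProper.Basic.isProper_toSpec n k
  haveI := LocallyOfFiniteType.jacobsonSpace (CohB1.ProjSpace.toSpec n k)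
  have hsub : CohB1.support (CohB1.tensorMod Q 𝕆(d)) ⊆ Set.range i := by
    refine (HilbPolyX.support_tensorMod_subset _ _).trans ((EulerChar.support_quotMod_subset i.ker).trans ?_)
    rw [Scheme.Hom.support_ker]
    exact (i.isClosedEmbedding.isClosed_range.closure_eq).le
  haveI : Finite ↥(CohB1.support (CohB1.tensorMod Q 𝕆(d))) := ((Set.finite_range i).subset hsub).to_subtype
  haveI : T1Space ↥(CohB1.support (CohB1.tensorMod Q 𝕆(d))) := ⟨fun ⟨y, hy⟩ => by
    obtain ⟨x, rfl⟩ := hsub hy
    have hx : IsClosed ({i x} : Set P) := by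
      have := i.isClosedEmbedding.isClosedMap _ (isClosed_point i x)
      rwa [Set.image_singleton] at this
    convert hx.preimage continuous_subtype_val using 1
    ext z
    exact Subtype.ext_iff⟩
  exact topologicalKrullDim_zero_of_discreteTopology _ |>.trans le_rfl

/-- The twists of the structure sheaf of a finite subscheme have no higher cohomology and constant `h⁰`;
all their sections come from forms, from the degree `Σ e - 1` on. -/
theorem sections (e : X → ℕ) (he : ∀ x, IsLocalRing.maximalIdeal (X.presheaf.stalk x) ^ e x = ⊥) :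
    (∀ (d : ℤ) (q : ℕ), Subsingleton (Coh.HH P (CohB1.tensorMod Q 𝕆(d)) (q + 1))) ∧
    (∀ t : ℕ, ∑ x, e x ≤ t + 1 → Function.Surjective (HilbBridge.Φ (HilbBridge.one i.ker) t)) ∧
    (∑ x, e x = 0 → ∀ d : ℤ, Subsingleton (Coh.HH P (CohB1.tensorMod Q 𝕆(d)) 0)) := by
  haveI : IsProper (P ↘ Spec (CommRingCat.of k)) := ProjProper.Basic.isProper_toSpec n k
  haveI := EulerChar.isNoetherian k (X := P)
  have hQc : Coh.IsCoh Q := EulerChar.isCoh_quotMod k i.ker
  have hc : ∀ d : ℤ, Coh.IsCoh (CohB1.tensorMod Q 𝕆(d)) := fun d => ProjTwist.Pn.isCoh_tw hQc d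
  have hh0 : ∀ d : ℤ, (Module.finrank k (Coh.HH P (CohB1.tensorMod Q 𝕆(d)) 0) : ℤ) =
      Curv2.euler k P (CohB1.tensorMod Q 𝕆(d)) := fun d =>
    (EulerChar.euler_eq_finrank_of_support k (hc d) (supp_dim_le i d)).symm
  have hconst : ∀ d : ℤ, Curv2.euler k P (CohB1.tensorMod Q 𝕆(d)) = Curv2.euler k P (CohB1.tensorMod Q 𝕆((0 : ℤ))) := by
    obtain ⟨H, hH, hneg⟩ := ProjTwist.Pn.exists_chi_poly hQc
    have hsupp : topologicalKrullDim ↥(CohB1.support Q) ≤ ((0 : ℕ) : WithBot ℕ∞) := by
      have h0 : CohB1.support Q ⊆ Set.range i := by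
        refine (EulerChar.support_quotMod_subset i.ker).trans ?_
        rw [Scheme.Hom.support_ker]
        exact (i.isClosedEmbedding.isClosed_range.closure_eq).le
      haveI : IsProper (CohB1.ProjSpace.toSpec n k) := ProjProper.Basic.isProper_toSpec n k
      haveI := LocallyOfFiniteType.jacobsonSpace (CohB1.ProjSpace.toSpec n k)
      haveI : Finite ↥(CohB1.support Q) := ((Set.finite_range i).subset h0).to_subtype
      haveI : T1Space ↥(CohB1.support Q) := ⟨fun ⟨y, hy⟩ => by
        obtain ⟨x, rfl⟩ := h0 hy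
        have hx : IsClosed ({i x} : Set P) := by
          have := i.isClosedEmbedding.isClosedMap _ (isClosed_point i x)
          rwa [Set.image_singleton] at this
        convert hx.preimage continuous_subtype_val using 1
        ext z
        exact Subtype.ext_iff⟩
      exact topologicalKrullDim_zero_of_discreteTopology _ |>.trans le_rfl
    have hdeg := HilbPolyX.natDegree_le k ProjTwist.Pn.isAmple_one.1 hQc hH hsupp
    obtain ⟨c, hc'⟩ := Polynomial.natDegree_eq_zero.mp (Nat.le_zero.mp hdeg)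
    have hall : ∀ d : ℤ, (Curv2.euler k P (CohB1.tensorMod Q 𝕆(d)) : ℚ) = c := fun d => by
      obtain ⟨m, rfl | rfl⟩ := d.eq_nat_or_neg
      · exact (ProjTwist.Pn.chi_eq_hilb hH m).trans (by rw [← hc', Polynomial.eval_C])
      · exact (hneg m).trans (by rw [← hc', Polynomial.eval_C])
    intro d
    exact Int.cast_injective (α := ℚ) ((hall d).trans (hall 0).symm)
  obtain ⟨l, hl⟩ := exists_step i e he
  set V := HilbLinear.vanI i.ker with hV
  -- the quotients by the forms vanishing on the subscheme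
  let q : ℕ → ℕ := fun t => Module.finrank k (S_[t] ⧸ GradedLin.piece V t)
  have hstep : ∀ t, ∑ x, e x ≤ t + 1 → q t = q (t + 1) := by
    intro t ht
    let m : S_[t] →ₗ[k] S_[t + 1] :=
      { toFun := fun F => ⟨l.1 * F.1, (show (l.1 * F.1).IsHomogeneous (t + 1) from add_comm 1 t ▸ l.2.mul F.2)⟩
        map_add' := fun F G => Subtype.ext (mul_add _ _ _)
        map_smul' := fun c F => Subtype.ext (mul_smul_comm _ _ _) }
    let g := (GradedLin.piece V (t + 1)).mkQ ∘ₗ m
    have hk : LinearMap.ker g = GradedLin.piece V t := by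
      ext F
      rw [LinearMap.mem_ker, GradedLin.mem_piece]
      exact (Submodule.Quotient.mk_eq_zero _).trans ⟨(hl t).1 F, fun h => V.mul_mem_left _ h⟩
    have hs : Function.Surjective g := by
      intro y
      obtain ⟨F, rfl⟩ := Submodule.mkQ_surjective _ y
      obtain ⟨G, hG⟩ := (hl t).2 ht F
      refine ⟨G, (Submodule.Quotient.eq _).mpr ?_⟩
      show (m G - F).1 ∈ V
      rw [← neg_mem_iff]
      show -(l.1 * G.1 - F.1) ∈ V
      rw [neg_sub]
      exact hG
    exact ((Submodule.quotEquivOfEq _ _ hk).symm.trans (g.quotKerEquivOfSurjective hs)).finrank_eq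
  have hq : ∀ t, ∑ x, e x ≤ t + 1 → (q t : ℤ) = Curv2.euler k P (CohB1.tensorMod Q 𝕆((0 : ℤ))) := by
    intro t ht
    obtain ⟨N, hN⟩ := HilbLinear.exists_count i.ker
    have hind : ∀ s, q t = q (t + s) := by
      intro s
      induction s with
      | zero => rfl
      | succ s ih => exact ih.trans (hstep (t + s) (by omega))
    rw [hind N, ← hconst ((t + N : ℕ) : ℤ)]
    exact (hN (t + N) (by omega)).symm
  refine ⟨fun d j => EulerChar.subsingleton_HH_of_support k (hc d) (supp_dim_le i d) j, fun t ht => ?_, fun h0 d => ?_⟩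
  · haveI := HilbBridge.finite_form (k := k) (n := n) t
    haveI := EulerChar.finite_HH k _ (hc (t : ℤ)) 0
    rw [← LinearMap.range_eq_top]
    refine Submodule.eq_top_of_finrank_eq ?_
    have hker : LinearMap.ker (HilbBridge.Φ (HilbBridge.one i.ker) t) = GradedLin.piece V t := by
      ext F
      rw [LinearMap.mem_ker, HilbBridge.Φ_quot_eq_zero_iff, GradedLin.mem_piece]
      exact (HilbLinear.mem_vanI_iff i.ker F).symm
    have e1 := ((HilbBridge.Φ (HilbBridge.one i.ker) t).quotKerEquivRange.symm.trans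
      (Submodule.quotEquivOfEq _ _ hker)).finrank_eq
    have e2 := (hq t ht).trans ((hconst (t : ℤ)).symm.trans (hh0 (t : ℤ)).symm)
    rw [e1]
    exact_mod_cast e2
  · haveI := EulerChar.finite_HH k _ (hc d) 0
    refine (Module.finrank_zero_iff (R := k)).mp ?_
    have h1 : (1 : MvPolynomial (Fin (n + 1)) k) ∈ V := by
      let F : LefPen.Form n k 0 := ⟨1, isHomogeneous_one _ _⟩
      refine (vanI_iff i F).2 fun x j hj => ?_
      have hx : e x = 0 := (Finset.sum_eq_zero_iff.mp h0) x (Finset.mem_univ x)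
      have := he x
      rw [hx, pow_zero, Ideal.one_eq_top] at this
      exact absurd this top_ne_bot
    have htop : GradedLin.piece V 0 = ⊤ := Submodule.eq_top_iff'.mpr fun F =>
      (GradedLin.mem_piece F).mpr (by simpa using V.mul_mem_left F.1 h1)
    have := hq 0 (by omega)
    rw [show q 0 = 0 from by
      haveI : Subsingleton (S_[0] ⧸ GradedLin.piece V 0) := Submodule.Quotient.subsingleton_iff.mpr htop
      exact Module.finrank_zero_of_subsingleton] at this
    have h2 := hh0 d
    rw [hconst, ← this] at h2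
    exact_mod_cast h2

theorem sub_X1 {Y : Scheme.{u}} {S : ShortComplex Y.Modules} (hS : S.ShortExact) (q : ℕ)
    (h2 : Subsingleton (Coh.HH Y S.X₂ (q + 1))) (h3 : Subsingleton (Coh.HH Y S.X₃ q)) :
    Subsingleton (Coh.HH Y S.X₁ (q + 1)) :=
  @CohLin.subsingleton_X₁ _ _ hS q h2 h3

/-- The first cohomology of the twisted ideal sheaf vanishes, and the ideal sheaf is regular. -/
theorem regular (e : X → ℕ) (he : ∀ x, IsLocalRing.maximalIdeal (X.presheaf.stalk x) ^ e x = ⊥) :
    (∀ j : ℤ, ((∑ x, e x : ℕ) : ℤ) - 1 ≤ j →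
      Subsingleton (Coh.HH P (CohB1.tensorMod (ClSub.idealMod i.ker) 𝕆(j)) 1)) ∧
    Curv2.IsMRegular k n (ClSub.idealMod i.ker) ((∑ x, e x : ℕ) : ℤ) := by
  obtain ⟨hQ, hsurj, hzero⟩ := sections i e he
  let T := fun d : ℤ => ProjTwist.Pn.twFun n k d
  have hS := fun d : ℤ => ProjTwist.Pn.shortExact_tw (EulerChar.shortExact_ideal i.ker) d
  have hO : ∀ (d : ℤ) (q : ℕ), -(n : ℤ) ≤ d →
      Subsingleton (Coh.HH P ((T d).obj (Coh.structureModule P)) (q + 1)) := fun d q hd =>
    @ProjTwist.Pn.subsingleton_of_iso _ _ _ _ _ (ProjTwist.oneTens 𝕆(d)).symm (q + 1)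
      (ProjTwist.Pn.subsingleton_twist (n := n) (R := k) d q (Or.inr (by omega)))
  have h1 : ∀ j : ℤ, ((∑ x, e x : ℕ) : ℤ) - 1 ≤ j → -(n : ℤ) ≤ j →
      Subsingleton (Coh.HH P (CohB1.tensorMod (ClSub.idealMod i.ker) 𝕆(j)) 1) := by
    intro j hj hjn
    refine subsingleton_of_forall_eq 0 fun x => ?_
    obtain ⟨z, rfl⟩ := CohLin.exists_hδ_eq (hS j) (n := 0) x (@Subsingleton.elim _ (hO j 0 hjn) _ _)
    rcases le_or_gt 0 j with hj0 | hj0
    · lift j to ℕ using hj0
      obtain ⟨F, rfl⟩ := hsurj j (by omega) z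
      rw [← HilbBridge.hMap_Φ i.ker j F]
      exact CohLin.hδ_hMap_g (hS (j : ℤ)) _
    · have h0 := hzero (by omega) j
      exact (congrArg (CohLin.hδ (hS j) 0) (@Subsingleton.elim _ h0 z 0)).trans (map_zero _)
  refine ⟨fun j hj => ?_, fun q hq1 hqn => ?_⟩
  · rcases Nat.eq_zero_or_pos n with hn | hn
    · rcases le_or_gt 0 j with hj0 | hj0
      · exact h1 j hj (by omega)
      · subst hn
        refine @ProjTwist.Pn.subsingleton_of_iso _ _ _ _ _ (Iso.refl _) 1 ?_
        exact sub_X1 (hS j) 0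
          (@ProjTwist.Pn.subsingleton_of_iso _ _ _ _ _ (ProjTwist.oneTens _).symm (0 + 1)
            (ProjTwist.Pn.subsingleton_twist (n := 0) (R := k) j 0 (Or.inl (by omega))))
          (hzero (by omega) j)
    · exact h1 j hj (by omega)
  · obtain ⟨q, rfl⟩ : ∃ p, q = p + 1 := ⟨q - 1, by omega⟩
    rcases Nat.eq_zero_or_pos q with rfl | hq
    · exact h1 _ (by omega) (by omega)
    · obtain ⟨q, rfl⟩ : ∃ p, q = p + 1 := ⟨q - 1, by omega⟩
      exact sub_X1 (hS _) (q + 1) (hO _ (q + 1) (by omega)) (hQ _ q)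

end Groth.Agent.PtsReg
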